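/-
helper45: the polynomial identities behind the exceptional automorphism of `Sp_4(F)` in
characteristic two (the second exterior power modulo the symplectic bivector).
-/
import Mathlib

set_option autoImplicit false

namespace Cfsg.Agent.Lib.Helper45.Sp4

open Matrix

/-- the index type of `Sp_4` -/
abbrev I4 : Type := Fin 2 ⊕ Fin 2

abbrev ia : I4 := Sum.inl 0
abbrev ib : I4 := Sum.inl 1
abbrev ic : I4 := Sum.inr 0
abbrev idd : I4 := Sum.inr 1

/-- first member of the `i`-th isotropic pair: `ab, ad, cd, bc` -/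
def p1 : I4 → I4 := Sum.elim ![ia, ia] ![ic, ib]

/-- second member of the `i`-th isotropic pair -/
def p2 : I4 → I4 := Sum.elim ![ib, idd] ![idd, ic]

@[simp] theorem p1_a : p1 ia = ia := rfl
@[simp] theorem p1_b : p1 ib = ia := rfl
@[simp] theorem p1_c : p1 ic = ic := rfl
@[simp] theorem p1_d : p1 idd = ib := rfl
@[simp] theorem p2_a : p2 ia = ib := rfl
@[simp] theorem p2_b : p2 ib = idd := rfl
@[simp] theorem p2_c : p2 ic = idd := rfl
@[simp] theorem p2_d : p2 idd = ic := rfl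

variable {F : Type*} [CommRing F]

theorem sum4 {M : Type*} [AddCommMonoid M] (g : I4 → M) :
    ∑ i, g i = g ia + g ib + (g ic + g idd) := by
  rw [Fintype.sum_sum_type, Fin.sum_univ_two, Fin.sum_univ_two]

theorem forall4 {P : I4 → Prop} (ha : P ia) (hb : P ib) (hc : P ic) (hd : P idd) : ∀ i, P i := by
  intro i
  rcases i with i | i <;> fin_cases i
  · exact ha
  · exact hb
  · exact hc
  · exact hd

/-- the wedge of two vectors in the coordinates of the four isotropic pairs -/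
def wd (x y : I4 → F) : I4 → F := fun i => x (p1 i) * y (p2 i) + x (p2 i) * y (p1 i)

/-- the symplectic form (characteristic two: without signs) -/
def om (x y : I4 → F) : F := x ia * y ic + x ic * y ia + x ib * y idd + x idd * y ib

theorem wd_comm (x y : I4 → F) : wd x y = wd y x := by
  funext i
  unfold wd
  ring

theorem om_comm (x y : I4 → F) : om x y = om y x := by
  unfold om
  ring

theorem wd_a (x y : I4 → F) : wd x y ia = x ia * y ib + x ib * y ia := rfl
theorem wd_b (x y : I4 → F) : wd x y ib = x ia * y idd + x idd * y ia := rfl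
theorem wd_c (x y : I4 → F) : wd x y ic = x ic * y idd + x idd * y ic := rfl
theorem wd_d (x y : I4 → F) : wd x y idd = x ib * y ic + x ic * y ib := rfl

/-- Cauchy–Binet modulo the symplectic bivector -/
theorem cb (h2 : (2 : F) = 0) (R S x y : I4 → F) (hRS : om R S = 0) (hxy : om x y = 0) :
    (R ⬝ᵥ x) * (S ⬝ᵥ y) + (S ⬝ᵥ x) * (R ⬝ᵥ y) = wd R S ⬝ᵥ wd x y := by
  unfold dotProduct
  rw [sum4, sum4, sum4, sum4, sum4]
  simp only [wd_a, wd_b, wd_c, wd_d]
  unfold om at hRS hxy
  linear_combination (R ia*S ic + R ic*S ia) * hxy + (x ib*y idd + x idd*y ib) * hRS + (R ia*S ia*x ia*y ia + -(R ia*S ic*x ib*y idd) + -(R ia*S ic*x idd*y ib) + R ib*S ib*x ib*y ib + -(R ic*S ia*x ib*y idd) + -(R ic*S ia*x idd*y ib) + R ic*S ic*x ic*y ic + R idd*S idd*x idd*y idd) * h2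

/-- the induced form on wedges -/
theorem om_wd (h2 : (2 : F) = 0) (x y u v : I4 → F) (hxy : om x y = 0) (huv : om u v = 0) :
    om (wd x y) (wd u v) = om x u * om y v + om x v * om y u := by
  unfold om at hxy huv ⊢
  simp only [wd_a, wd_b, wd_c, wd_d]
  linear_combination (u ia*v ic + u ic*v ia) * hxy + (x ib*y idd + x idd*y ib) * huv + (-(u ia*v ia*x ic*y ic) + -(u ia*v ic*x ia*y ic) + -(u ia*v ic*x ib*y idd) + -(u ia*v ic*x ic*y ia) + -(u ia*v ic*x idd*y ib) + -(u ib*v ib*x idd*y idd) + -(u ib*v idd*x ib*y idd) + -(u ib*v idd*x idd*y ib) + -(u ic*v ia*x ia*y ic) + -(u ic*v ia*x ib*y idd) + -(u ic*v ia*x ic*y ia) + -(u ic*v ia*x idd*y ib) + -(u ic*v ic*x ia*y ia) + -(u idd*v ib*x ib*y idd) + -(u idd*v ib*x idd*y ib) + -(u idd*v idd*x ib*y ib)) * h2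

/-- the double wedge -/
theorem wd_wd (h2 : (2 : F) = 0) (x y z : I4 → F) (hxy : om x y = 0) (hxz : om x z = 0) (i : I4) :
    wd (wd x y) (wd x z) i = om y z * x i ^ 2 := by
  revert i
  unfold om at hxy hxz ⊢
  apply forall4
  · simp only [wd_a, wd_b, wd_c, wd_d]
    linear_combination (x ia*z ia) * hxy + (x ia*y ia) * hxz + (-(x ia*x ic*y ia*z ia) + -(x ia^2*y ia*z ic) + -(x ia^2*y ic*z ia) + x ib*x idd*y ia*z ia) * h2
  · simp only [wd_a, wd_b, wd_c, wd_d]
    linear_combination (x ib*z ib) * hxy + (x ib*y ib) * hxz + (x ia*x ic*y ib*z ib + -(x ib*x idd*y ib*z ib) + -(x ib^2*y ib*z idd) + -(x ib^2*y idd*z ib)) * h2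
  · simp only [wd_a, wd_b, wd_c, wd_d]
    linear_combination (x ic*z ic) * hxy + (x ic*y ic) * hxz + (-(x ia*x ic*y ic*z ic) + x ib*x idd*y ic*z ic + -(x ic^2*y ia*z ic) + -(x ic^2*y ic*z ia)) * h2
  · simp only [wd_a, wd_b, wd_c, wd_d]
    linear_combination (x idd*z idd) * hxy + (x idd*y idd) * hxz + (x ia*x ic*y idd*z idd + -(x ib*x idd*y idd*z idd) + -(x idd^2*y ib*z idd) + -(x idd^2*y idd*z ib)) * h2

end Cfsg.Agent.Lib.Helper45.Sp4
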