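/-
helper45: the exceptional endomorphism `psiMat` of `Sp_4(F)` in characteristic two (the matrix of
`2 × 2` minors on the four isotropic pairs); it is multiplicative, preserves `Sp_4`, and its
square is the entrywise squaring map.
-/
import Cfsg.Agent.Lib.Helper45.Sp4.Wedge

set_option autoImplicit false

namespace Cfsg.Agent.Lib.Helper45.Sp4

open Matrix

variable {F : Type*} [CommRing F]

/-- the Gram matrix of `om` on the standard basis -/
def jj (r s : I4) : F := om (Pi.single r 1) (Pi.single s 1)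

theorem J_char2 (h2 : (2 : F) = 0) (r s : I4) : Matrix.J (Fin 2) F r s = jj r s := by
  have hneg : (-1 : F) = 1 := by linear_combination (-1 : F) * h2
  revert s
  revert r
  apply forall4 <;> apply forall4 <;>
    simp [Matrix.J, jj, om, Matrix.one_apply, hneg]

theorem om_row (h2 : (2 : F) = 0) {A : Matrix I4 I4 F}
    (hA : A ∈ Matrix.symplecticGroup (Fin 2) F) (r s : I4) : om (A r) (A s) = jj r s := by
  have h := (SymplecticGroup.mem_iff).1 hA
  have h1 := congrFun (congrFun h r) s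
  rw [← J_char2 h2 r s, ← h1]
  simp only [Matrix.mul_apply, sum4, Matrix.transpose_apply]
  have e1 : ∀ r s : I4, Matrix.J (Fin 2) F r s = jj r s := J_char2 h2
  simp only [e1]
  simp [jj, om]
  linear_combination (0 : F) * h2

theorem om_col (h2 : (2 : F) = 0) {A : Matrix I4 I4 F}
    (hA : A ∈ Matrix.symplecticGroup (Fin 2) F) (r s : I4) :
    om (fun i => A i r) (fun i => A i s) = jj r s :=
  om_row h2 (SymplecticGroup.transpose_mem hA) r s

theorem mem_sp_of_om (h2 : (2 : F) = 0) {M : Matrix I4 I4 F}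
    (h : ∀ r s : I4, om (M r) (M s) = jj r s) : M ∈ Matrix.symplecticGroup (Fin 2) F := by
  rw [SymplecticGroup.mem_iff]
  ext r s
  rw [J_char2 h2 r s, ← h r s]
  simp only [Matrix.mul_apply, sum4, Matrix.transpose_apply]
  have e1 : ∀ r s : I4, Matrix.J (Fin 2) F r s = jj r s := J_char2 h2
  simp only [e1]
  simp [jj, om]
  linear_combination (0 : F) * h2

theorem jj_pairs (r : I4) : (jj (p1 r) (p2 r) : F) = 0 := by
  revert r
  apply forall4 <;> simp [jj, om]

theorem jj_check (r s : I4) :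
    (jj (p1 r) (p1 s) * jj (p2 r) (p2 s) + jj (p1 r) (p2 s) * jj (p2 r) (p1 s) : F) = jj r s := by
  revert s
  revert r
  apply forall4 <;> apply forall4 <;> simp [jj, om]

/-- the matrix of `2 × 2` minors of `A` on the four isotropic pairs (characteristic two) -/
def psiMat (A : Matrix I4 I4 F) : Matrix I4 I4 F := fun i j =>
  A (p1 i) (p1 j) * A (p2 i) (p2 j) + A (p1 i) (p2 j) * A (p2 i) (p1 j)

theorem psiMat_row (A : Matrix I4 I4 F) (i : I4) : psiMat A i = wd (A (p1 i)) (A (p2 i)) := by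
  funext j
  rfl

theorem psiMat_col (A : Matrix I4 I4 F) (j : I4) :
    (fun i => psiMat A i j) = wd (fun i => A i (p1 j)) (fun i => A i (p2 j)) := by
  funext i
  unfold psiMat wd
  ring

theorem psiMat_mem (h2 : (2 : F) = 0) {A : Matrix I4 I4 F}
    (hA : A ∈ Matrix.symplecticGroup (Fin 2) F) : psiMat A ∈ Matrix.symplecticGroup (Fin 2) F := by
  apply mem_sp_of_om h2
  intro r s
  rw [psiMat_row, psiMat_row, om_wd h2 _ _ _ _ (by rw [om_row h2 hA, jj_pairs])
    (by rw [om_row h2 hA, jj_pairs]), om_row h2 hA, om_row h2 hA, om_row h2 hA, om_row h2 hA,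
    jj_check]

theorem psiMat_mul (h2 : (2 : F) = 0) {A B : Matrix I4 I4 F}
    (hA : A ∈ Matrix.symplecticGroup (Fin 2) F) (hB : B ∈ Matrix.symplecticGroup (Fin 2) F) :
    psiMat (A * B) = psiMat A * psiMat B := by
  ext i k
  have h1 : (psiMat A * psiMat B) i k =
      wd (A (p1 i)) (A (p2 i)) ⬝ᵥ wd (fun j => B j (p1 k)) (fun j => B j (p2 k)) := by
    rw [← psiMat_row, ← psiMat_col]
    rfl
  rw [h1, ← cb h2 _ _ _ _ (by rw [om_row h2 hA, jj_pairs]) (by rw [om_col h2 hB, jj_pairs])]
  unfold psiMat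
  simp only [Matrix.mul_apply, dotProduct]
  ring

theorem psiMat_one : psiMat (1 : Matrix I4 I4 F) = 1 := by
  ext i j
  revert j
  revert i
  apply forall4 <;> apply forall4 <;> simp [psiMat, Matrix.one_apply]

theorem psiMat_psiMat (h2 : (2 : F) = 0) {A : Matrix I4 I4 F}
    (hA : A ∈ Matrix.symplecticGroup (Fin 2) F) (i j : I4) :
    psiMat (psiMat A) i j = A i j ^ 2 := by
  have hjbd : (jj ib idd : F) = 1 := by simp [jj, om]
  have hjac : (jj ia ic : F) = 1 := by simp [jj, om]
  have hjdb : (jj idd ib : F) = 1 := by simp [jj, om]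
  have h0 : ∀ r s : I4, (jj r s : F) = 0 → om (A r) (A s) = 0 := fun r s h => by
    rw [om_row h2 hA, h]
  rw [psiMat_row, psiMat_row, psiMat_row]
  revert i
  apply forall4
  · -- row a
    simp only [p1_a, p2_a, p1_b, p2_b]
    rw [wd_wd h2 (A ia) (A ib) (A idd) (h0 _ _ (by simp [jj, om])) (h0 _ _ (by simp [jj, om])),
      om_row h2 hA, hjbd, one_mul]
  · -- row b
    simp only [p1_b, p2_b, p1_a, p2_a, p1_d, p2_d]
    rw [wd_comm (A ia) (A ib),
      wd_wd h2 (A ib) (A ia) (A ic) (h0 _ _ (by simp [jj, om])) (h0 _ _ (by simp [jj, om])),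
      om_row h2 hA, hjac, one_mul]
  · -- row c
    simp only [p1_c, p2_c, p1_d, p2_d]
    rw [wd_comm (A ib) (A ic),
      wd_wd h2 (A ic) (A idd) (A ib) (h0 _ _ (by simp [jj, om])) (h0 _ _ (by simp [jj, om])),
      om_row h2 hA, hjdb, one_mul]
  · -- row d
    simp only [p1_d, p2_d, p1_b, p2_b, p1_c, p2_c]
    rw [wd_comm (A ia) (A idd), wd_comm (A ic) (A idd),
      wd_wd h2 (A idd) (A ia) (A ic) (h0 _ _ (by simp [jj, om])) (h0 _ _ (by simp [jj, om])),
      om_row h2 hA, hjac, one_mul]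

end Cfsg.Agent.Lib.Helper45.Sp4
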