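/-
helper45: the exceptional automorphism of `Sp_4(F)` and of `PSp_4(F)` over a finite field of
characteristic two; its square is the Frobenius field automorphism and it maps long root elements
to short root elements.
-/
import Cfsg.Agent.Lib.Helper45.Sp4.Psi
import Cfsg.Agent.Lib.Helper45.PSpAut.Even3
import Cfsg.Agent.Lib.Helper45.PSpAut.Main
import Cfsg.Agent.Lib.Helper43.PSpAutStd

set_option autoImplicit false

namespace Cfsg.Agent.Lib.Helper45.Sp4

open Matrix Cfsg.Agent.Lib.Helper13 Cfsg.Agent.Lib.Helper45.FTPG Cfsg.Agent.Lib.Helper45.PSLAut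
  Cfsg.Agent.Lib.Helper45.PSpAut

variable {F : Type*} [Field F]

/-- the exceptional endomorphism of `Sp_4(F)`, characteristic two -/
noncomputable def psiHom (h2 : (2 : F) = 0) :
    Matrix.symplecticGroup (Fin 2) F →* Matrix.symplecticGroup (Fin 2) F where
  toFun A := ⟨psiMat A.1, psiMat_mem h2 A.2⟩
  map_one' := Subtype.ext psiMat_one
  map_mul' A B := Subtype.ext (psiMat_mul h2 A.2 B.2)

theorem psiHom_coe (h2 : (2 : F) = 0) (A : Matrix.symplecticGroup (Fin 2) F) :
    (psiHom h2 A).1 = psiMat A.1 := rfl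

theorem psiHom_psiHom (h2 : (2 : F) = 0) (A : Matrix.symplecticGroup (Fin 2) F) (i j : I4) :
    (psiHom h2 (psiHom h2 A)).1 i j = A.1 i j ^ 2 :=
  psiMat_psiMat h2 A.2 i j

theorem sq_inj_char_two (h2 : (2 : F) = 0) {a b : F} (h : a ^ 2 = b ^ 2) : a = b := by
  have h1 : (a - b) ^ 2 = 0 := by linear_combination h + (b ^ 2 - a * b) * h2
  have := pow_eq_zero_iff (two_ne_zero) |>.1 h1
  exact sub_eq_zero.1 this

theorem psiHom_injective (h2 : (2 : F) = 0) : Function.Injective (psiHom h2) := by
  intro A B h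
  apply Subtype.ext
  ext i j
  apply sq_inj_char_two h2
  rw [← psiHom_psiHom h2 A, ← psiHom_psiHom h2 B, h]

theorem tvElt_eL0_apply (c : F) (i j : I4) :
    (tvElt (eL (0 : Fin 2)) c).1 i j =
      (if i = j then 1 else 0) + (if i = ia ∧ j = ic then c else 0) := by
  show Cfsg.sympTransvection 2 (eL (0 : Fin 2)) c i j = _
  unfold Cfsg.sympTransvection eL
  revert j
  revert i
  apply forall4 <;> apply forall4 <;>
    simp [Matrix.vecMulVec_apply, Matrix.mulVec, dotProduct, sum4, Matrix.J, Matrix.one_apply]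

/-- the image of a long root element is a short root element -/
theorem psiHom_tvElt (h2 : (2 : F) = 0) (c : F) :
    IsR (0 : Fin 2) 1 0 c (psiHom h2 (tvElt (eL (0 : Fin 2)) c)) := by
  intro x
  funext i
  revert i
  apply forall4 <;>
  · simp only [psiHom_coe, psiMat, Matrix.mulVec, dotProduct, sum4, tvElt_eL0_apply, p1_a, p1_b,
      p1_c, p1_d, p2_a, p2_b, p2_c, p2_d]
    simp [eL, Pi.single_apply]

section Finite

variable [Fintype F] [CharP F 2]

theorem two_eq_zero' : (2 : F) = 0 := CharTwo.two_eq_zero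

/-- the exceptional automorphism of `Sp_4(F)` -/
noncomputable def psiAut : MulAut (Matrix.symplecticGroup (Fin 2) F) :=
  MulEquiv.ofBijective (psiHom (two_eq_zero' (F := F)))
    ⟨psiHom_injective _, Finite.surjective_of_injective (psiHom_injective _)⟩

theorem psiAut_apply (s : Matrix.symplecticGroup (Fin 2) F) :
    psiAut s = psiHom two_eq_zero' s := rfl

/-- the exceptional automorphism of `PSp_4(F)` -/
noncomputable def PsiP : MulAut (Cfsg.PSp 2 F) := Cfsg.Agent.Lib.Helper43.pspDescend psiAut

theorem PsiP_mk (s : Matrix.symplecticGroup (Fin 2) F) :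
    PsiP (QuotientGroup.mk s : Cfsg.PSp 2 F) = QuotientGroup.mk (psiHom two_eq_zero' s) := rfl

/-- the Frobenius automorphism of `F` -/
noncomputable def frobR : RingAut F := frobeniusEquiv F 2

theorem frobR_apply (x : F) : (frobR : RingAut F) x = x ^ 2 := by
  unfold frobR
  rw [frobeniusEquiv_apply]
  rfl

/-- the square of the exceptional automorphism is the Frobenius field automorphism -/
theorem PsiP_mul_PsiP :
    (PsiP : MulAut (Cfsg.PSp 2 F)) * PsiP = Cfsg.Agent.Lib.Helper43.pspField frobR := by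
  ext x
  induction x using QuotientGroup.induction_on with
  | H s =>
    rw [MulAut.mul_apply, PsiP_mk, PsiP_mk, Cfsg.Agent.Lib.Helper43.pspField_mk]
    congr 1
    apply Subtype.ext
    ext i j
    rw [psiHom_psiHom, Cfsg.Agent.Lib.Helper43.spFieldAut_apply_coe, Matrix.map_apply]
    exact (frobR_apply _).symm

end Finite

end Cfsg.Agent.Lib.Helper45.Sp4
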