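/-
helper45: in `Sp_4(F)`, characteristic two, the centraliser of a "mixed" central element of the
Sylow `2`-subgroup (non-zero long and short root parameters) has exponent dividing four, while the
centraliser of a long root element contains an element of order three.
-/
import Cfsg.Agent.Lib.Helper45.Sp4.PsiHom

set_option autoImplicit false

namespace Cfsg.Agent.Lib.Helper45.Sp4

open Matrix Cfsg.Agent.Lib.Helper13 Cfsg.Agent.Lib.Helper45.FTPG Cfsg.Agent.Lib.Helper45.PSLAut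
  Cfsg.Agent.Lib.Helper45.PSpAut

variable {F : Type*} [Field F]

section Mixed

variable {β b : F} {z h : Matrix.symplecticGroup (Fin 2) F}

/-- the quadratic form attached to a central element -/
theorem isR_form (h2 : (2 : F) = 0) (hz : IsR (0 : Fin 2) 1 β b z) (x : I4 → F) :
    Cfsg.sympForm 2 F x (z.1 *ᵥ x) = β * x (Sum.inr 0) ^ 2 := by
  rw [hz x, sympForm_add_right, sympForm_add_right, sympForm_smul_right, sympForm_smul_right,
    sympForm_self, form_eL, form_eL]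
  linear_combination (b * x (Sum.inr 0) * x (Sum.inr 1)) * h2

theorem comm_mulVec (hcomm : h * z = z * h) (x : I4 → F) :
    z.1 *ᵥ (h.1 *ᵥ x) = h.1 *ᵥ (z.1 *ᵥ x) := by
  rw [← sp_mul_mulVec, ← sp_mul_mulVec, hcomm]

theorem mixed_c (h2 : (2 : F) = 0) (hz : IsR (0 : Fin 2) 1 β b z) (hβ : β ≠ 0)
    (hcomm : h * z = z * h) (x : I4 → F) : (h.1 *ᵥ x) (Sum.inr 0) = x (Sum.inr 0) := by
  have h1 := isR_form h2 hz (h.1 *ᵥ x)
  rw [comm_mulVec hcomm, sp_form, isR_form h2 hz x] at h1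
  exact (sq_inj_char_two h2 (mul_left_cancel₀ hβ h1)).symm

theorem mixed_fix_a (h2 : (2 : F) = 0) (hz : IsR (0 : Fin 2) 1 β b z) (hβ : β ≠ 0)
    (hcomm : h * z = z * h) : h.1 *ᵥ (eL (0 : Fin 2)) = eL 0 := by
  by_contra hne
  have hv : (eL (0 : Fin 2) : I4 → F) - h.1 *ᵥ eL 0 ≠ 0 := sub_ne_zero.2 (Ne.symm hne)
  obtain ⟨a, ha⟩ := exists_form_eq_one hv
  have h1 : Cfsg.sympForm 2 F (h.1 *ᵥ ((h⁻¹).1 *ᵥ a)) (eL (0 : Fin 2) - h.1 *ᵥ eL 0) = 0 := by
    rw [sympForm_sub_right, sp_form, form_eL, form_eL, mixed_c h2 hz hβ hcomm, sub_self]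
  rw [sp_mulVec_inv_mulVec] at h1
  rw [h1] at ha
  exact zero_ne_one ha

theorem mixed_b (h2 : (2 : F) = 0) (hz : IsR (0 : Fin 2) 1 β b z) (hβ : β ≠ 0) (hb : b ≠ 0)
    (hcomm : h * z = z * h) :
    h.1 *ᵥ (eL (1 : Fin 2)) = eL 1 + (h.1 *ᵥ eR (0 : Fin 2)) (Sum.inr 1) • eL (0 : Fin 2) := by
  have h1 := comm_mulVec hcomm (eR (0 : Fin 2))
  rw [hz (eR 0), hz (h.1 *ᵥ eR 0), mixed_c h2 hz hβ hcomm, Matrix.mulVec_add, Matrix.mulVec_add,
    Matrix.mulVec_smul, Matrix.mulVec_smul, mixed_fix_a h2 hz hβ hcomm] at h1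
  have e1 : (eR (0 : Fin 2) : I4 → F) (Sum.inr 0) = 1 := by rw [eR_inr, if_pos rfl]
  have e2 : (eR (0 : Fin 2) : I4 → F) (Sum.inr 1) = 0 := by
    rw [eR_inr, if_neg (by decide)]
  rw [e1, e2] at h1
  have h3 : b • (h.1 *ᵥ (eL (1 : Fin 2))) =
      b • (eL 1 + (h.1 *ᵥ eR (0 : Fin 2)) (Sum.inr 1) • eL (0 : Fin 2)) := by
    funext i
    have := congrFun h1 i
    simp only [Pi.add_apply, Pi.smul_apply, smul_eq_mul] at this ⊢
    linear_combination -this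
  exact smul_right_injective _ hb h3

theorem mixed_d (h2 : (2 : F) = 0) (hz : IsR (0 : Fin 2) 1 β b z) (hβ : β ≠ 0) (hb : b ≠ 0)
    (hcomm : h * z = z * h) (x : I4 → F) :
    (h.1 *ᵥ x) (Sum.inr 1) =
      x (Sum.inr 1) + (h.1 *ᵥ eR (0 : Fin 2)) (Sum.inr 1) * x (Sum.inr 0) := by
  have h1 : Cfsg.sympForm 2 F (h.1 *ᵥ x) (h.1 *ᵥ (eL (1 : Fin 2))) =
      Cfsg.sympForm 2 F x (eL 1) := sp_form h x (eL 1)
  rw [mixed_b h2 hz hβ hb hcomm, sympForm_add_right, sympForm_smul_right, form_eL, form_eL,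
    form_eL, mixed_c h2 hz hβ hcomm] at h1
  linear_combination h1 - ((h.1 *ᵥ eR (0 : Fin 2)) (Sum.inr 1) * x (Sum.inr 0)) * h2

/-- `h - 1` as a map on vectors -/
def mh (h : Matrix.symplecticGroup (Fin 2) F) (x : I4 → F) : I4 → F := h.1 *ᵥ x - x

theorem sq_mulVec (h2 : (2 : F) = 0) (h : Matrix.symplecticGroup (Fin 2) F) (x : I4 → F) :
    (h * h).1 *ᵥ x = x + mh h (mh h x) := by
  rw [sp_mul_mulVec]
  unfold mh
  rw [Matrix.mulVec_sub]
  funext i
  simp only [Pi.add_apply, Pi.sub_apply]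
  linear_combination ((h.1 *ᵥ x) i - x i) * h2

theorem mh_sq (h2 : (2 : F) = 0) (h : Matrix.symplecticGroup (Fin 2) F) (x : I4 → F) :
    mh (h * h) x = mh h (mh h x) := by
  conv_lhs => unfold mh
  rw [sq_mulVec h2, add_sub_cancel_left]

theorem pow4_mulVec (h2 : (2 : F) = 0) (h : Matrix.symplecticGroup (Fin 2) F) (x : I4 → F) :
    (h * h * (h * h)).1 *ᵥ x = x + mh h (mh h (mh h (mh h x))) := by
  rw [sq_mulVec h2 (h * h), mh_sq h2, mh_sq h2]

theorem mh_c (h2 : (2 : F) = 0) (hz : IsR (0 : Fin 2) 1 β b z) (hβ : β ≠ 0)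
    (hcomm : h * z = z * h) (x : I4 → F) : mh h x (Sum.inr 0) = 0 := by
  unfold mh
  rw [Pi.sub_apply, mixed_c h2 hz hβ hcomm, sub_self]

theorem mh_d (h2 : (2 : F) = 0) (hz : IsR (0 : Fin 2) 1 β b z) (hβ : β ≠ 0) (hb : b ≠ 0)
    (hcomm : h * z = z * h) (x : I4 → F) (hx : x (Sum.inr 0) = 0) : mh h x (Sum.inr 1) = 0 := by
  unfold mh
  rw [Pi.sub_apply, mixed_d h2 hz hβ hb hcomm, hx, mul_zero, add_zero, sub_self]

theorem mh_inE (h2 : (2 : F) = 0) (hz : IsR (0 : Fin 2) 1 β b z) (hβ : β ≠ 0) (hb : b ≠ 0)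
    (hcomm : h * z = z * h) (x : I4 → F) (hx : InE x) :
    mh h x = (x (Sum.inl 1) * (h.1 *ᵥ eR (0 : Fin 2)) (Sum.inr 1)) • eL (0 : Fin 2) := by
  unfold mh
  conv_lhs => rw [inE_expand hx]
  rw [Fin.sum_univ_two, Matrix.mulVec_add, Matrix.mulVec_smul, Matrix.mulVec_smul,
    mixed_fix_a h2 hz hβ hcomm, mixed_b h2 hz hβ hb hcomm]
  funext i
  simp only [Pi.add_apply, Pi.smul_apply, Pi.sub_apply, smul_eq_mul]
  ring

/-- the centraliser of a mixed central element has exponent dividing four -/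
theorem mixed_pow_four (h2 : (2 : F) = 0) (hz : IsR (0 : Fin 2) 1 β b z) (hβ : β ≠ 0) (hb : b ≠ 0)
    (hcomm : h * z = z * h) : h * h * (h * h) = 1 := by
  apply sp_ext
  intro x
  rw [pow4_mulVec h2, sp_one_mulVec]
  set y1 := mh h x with hy1
  set y2 := mh h y1 with hy2
  set y3 := mh h y2 with hy3
  have c1 : y1 (Sum.inr 0) = 0 := mh_c h2 hz hβ hcomm x
  have c2 : y2 (Sum.inr 0) = 0 := mh_c h2 hz hβ hcomm y1
  have d2 : y2 (Sum.inr 1) = 0 := mh_d h2 hz hβ hb hcomm y1 c1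
  have hE2 : InE y2 := by
    intro i
    fin_cases i
    · exact c2
    · exact d2
  have e3 : y3 = (y2 (Sum.inl 1) * (h.1 *ᵥ eR (0 : Fin 2)) (Sum.inr 1)) • eL (0 : Fin 2) :=
    mh_inE h2 hz hβ hb hcomm y2 hE2
  have hE3 : InE y3 := by
    rw [e3]
    exact inE_smul _ (inE_eL _)
  have b3 : y3 (Sum.inl 1) = 0 := by
    rw [e3, Pi.smul_apply, eL_inl, if_neg (by decide), smul_zero]
  rw [mh_inE h2 hz hβ hb hcomm y3 hE3, b3, zero_mul, zero_smul, add_zero]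

end Mixed

/-- an element of order three (characteristic two) centralising the long root group -/
noncomputable def g3 : Matrix.symplecticGroup (Fin 2) F :=
  tvElt (eL (1 : Fin 2)) 1 * tvElt (eR (1 : Fin 2)) 1

theorem g3_mulVec (x : I4 → F) :
    (g3 (F := F)).1 *ᵥ x = Sum.elim ![x ia, x idd] ![x ic, x idd - x ib] := by
  unfold g3
  rw [sp_mul_mulVec, tvElt_mulVec, tvElt_mulVec, form_eL, form_eR]
  funext i
  revert i
  apply forall4
  · simp [eL, eR]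
  · simp [eL, eR]
  · simp [eL, eR]
  · simp [eL, eR]
    ring

theorem g3_cube (h2 : (2 : F) = 0) : (g3 (F := F)) * g3 * g3 = 1 := by
  apply sp_ext
  intro x
  rw [sp_mul_mulVec, sp_mul_mulVec, sp_one_mulVec, g3_mulVec, g3_mulVec, g3_mulVec]
  funext i
  revert i
  apply forall4
  · simp
  · simp
    linear_combination (-x ib) * h2
  · simp
  · simp
    linear_combination (-x idd) * h2

theorem g3_ne_one : (g3 (F := F)) ≠ 1 := by
  intro h
  have h1 := congrArg (fun s : Matrix.symplecticGroup (Fin 2) F => (s.1 *ᵥ (eR (1 : Fin 2))) ib) h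
  simp only [g3_mulVec, sp_one_mulVec] at h1
  simp [eR] at h1

theorem g3_comm (c : F) : (g3 (F := F)) * tvElt (eL (0 : Fin 2)) c = tvElt (eL 0) c * g3 := by
  unfold g3
  have e1 : Cfsg.sympForm 2 F (eL (1 : Fin 2)) (eL (0 : Fin 2)) = 0 := by
    rw [form_eL, eL_inr]
  have e2 : Cfsg.sympForm 2 F (eR (1 : Fin 2)) (eL (0 : Fin 2)) = 0 := by
    rw [form_eL, eR_inr, if_neg (by decide)]
  rw [mul_assoc, tvElt_comm_of_perp e2, ← mul_assoc, tvElt_comm_of_perp e1, mul_assoc]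

end Cfsg.Agent.Lib.Helper45.Sp4
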