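/-
helper45: every automorphism of `PSp_4(F)` (`F` finite of characteristic two) maps the long root
element `x_a(1)` to a long root element or to the image under the exceptional automorphism of a
long root element.
-/
import Cfsg.Agent.Lib.Helper45.Sp4.Mixed
import Cfsg.Agent.Lib.Helper5.Symplectic

set_option autoImplicit false

namespace Cfsg.Agent.Lib.Helper45.Sp4

open Matrix Cfsg.Agent.Lib.Helper13 Cfsg.Agent.Lib.Helper45.FTPG Cfsg.Agent.Lib.Helper45.PSLAut
  Cfsg.Agent.Lib.Helper45.PSpAut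
open scoped Pointwise

variable {F : Type*} [Field F]

theorem isT_conj {m : ℕ} {x : Cfsg.PSp m F} (hx : IsT x) (g : Cfsg.PSp m F) :
    IsT (g * x * g⁻¹) := by
  obtain ⟨v, c, hv, hc, rfl⟩ := hx
  obtain ⟨s, rfl⟩ := QuotientGroup.mk_surjective g
  rw [conj_tbar]
  exact ⟨_, c, sp_mulVec_ne_zero _ hv, hc, rfl⟩

/-- `β` maps transvection images to transvection images -/
def PresT {m : ℕ} (β : MulAut (Cfsg.PSp m F)) : Prop := ∀ x : Cfsg.PSp m F, IsT x → IsT (β x)

theorem presT_one {m : ℕ} : PresT (1 : MulAut (Cfsg.PSp m F)) := fun _ hx => hx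

theorem PresT.mul {m : ℕ} {β γ : MulAut (Cfsg.PSp m F)} (hβ : PresT β) (hγ : PresT γ) :
    PresT (β * γ) := fun x hx => hβ _ (hγ x hx)

theorem presT_conj {m : ℕ} (g : Cfsg.PSp m F) : PresT (MulAut.conj g : MulAut (Cfsg.PSp m F)) :=
  fun _ hx => isT_conj hx g

theorem PresT.pow {m : ℕ} {β : MulAut (Cfsg.PSp m F)} (hβ : PresT β) (n : ℕ) : PresT (β ^ n) := by
  induction n with
  | zero => rw [pow_zero]; exact presT_one
  | succ n ih => rw [pow_succ]; exact ih.mul hβ

theorem PresT.inv {m : ℕ} [Finite F] {β : MulAut (Cfsg.PSp m F)} (hβ : PresT β) : PresT β⁻¹ := by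
  have hfin : Finite (MulAut (Cfsg.PSp m F)) := inferInstance
  have h1 : β⁻¹ = β ^ (orderOf β - 1) := by
    apply inv_eq_of_mul_eq_one_right
    rw [← pow_succ', Nat.sub_add_cancel (orderOf_pos β), pow_orderOf_eq_one]
  rw [h1]
  exact hβ.pow _

section Finite

variable [Fintype F] [CharP F 2]

/-- in characteristic two all transvection images are conjugate -/
theorem exists_conj_tbar {m : ℕ} (i₀ : Fin m) {v : Fin m ⊕ Fin m → F} (hv : v ≠ 0) {c : F}
    (hc : c ≠ 0) :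
    ∃ g : Cfsg.PSp m F, g * tbar (eL i₀) 1 * g⁻¹ = tbar v c := by
  obtain ⟨a, ha⟩ := FiniteField.isSquare_of_char_two (CharP.ringChar_of_prime_eq_zero
    Nat.prime_two (CharTwo.two_eq_zero (R := F))) c
  have ha0 : a ≠ 0 := by
    rintro rfl
    rw [mul_zero] at ha
    exact hc ha
  have hav : a • v ≠ 0 := smul_ne_zero ha0 hv
  obtain ⟨s, hs⟩ := Cfsg.Agent.Lib.Helper5.symplecticGroup_transitive (eL_ne_zero (F := F) i₀) hav
  refine ⟨QuotientGroup.mk s, ?_⟩
  have hs' : s.1 *ᵥ (eL i₀) = a • v := hs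
  rw [conj_tbar, hs', tbar_smul, one_mul, ha, pow_two]

theorem presT_of_t0 {m : ℕ} (i₀ : Fin m) (β : MulAut (Cfsg.PSp m F))
    (h : IsT (β (tbar (eL i₀) 1))) : PresT β := by
  rintro x ⟨v, c, hv, hc, rfl⟩
  obtain ⟨g, hg⟩ := exists_conj_tbar i₀ hv hc
  rw [← hg, map_mul, map_mul, map_inv]
  exact isT_conj h _

/-- the dichotomy for the image of a long root element -/
theorem key (β : MulAut (Cfsg.PSp 2 F)) :
    IsT (β (tbar (eL (0 : Fin 2)) 1)) ∨ IsT (PsiP⁻¹ (β (tbar (eL (0 : Fin 2)) 1))) := by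
  have h2 : (2 : F) = 0 := two_eq_zero'
  have hm2 : 2 ≤ 2 := le_refl 2
  obtain ⟨P, hUP, hPt⟩ := exists_sylow_even (F := F) hm2
  set t₀ : Cfsg.PSp 2 F := tbar (eL (0 : Fin 2)) 1 with ht₀
  have hPt' : ∀ y ∈ P, y * t₀ = t₀ * y := hPt
  have ht₀P : t₀ ∈ P := hUP (Subgroup.mem_map_of_mem _ (tvElt_mem_UUsp (inE_eL (0 : Fin 2)) 1))
  obtain ⟨g, hg⟩ := MulAction.exists_smul_eq (Cfsg.PSp 2 F) (β • P) P
  have hg' : MulAut.conj g • (β • (P : Subgroup (Cfsg.PSp 2 F))) = P := by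
    have := congrArg (fun Q : Sylow 2 (Cfsg.PSp 2 F) => (Q : Subgroup (Cfsg.PSp 2 F))) hg
    simpa [Sylow.coe_subgroup_smul, Sylow.pointwise_smul_def] using this
  set γ : MulAut (Cfsg.PSp 2 F) := MulAut.conj g * β with hγ
  have hγmem : ∀ u ∈ P, γ u ∈ P := by
    intro u hu
    have h1 : γ u ∈ MulAut.conj g • (β • (P : Subgroup (Cfsg.PSp 2 F))) :=
      Subgroup.smul_mem_pointwise_smul _ _ _ (Subgroup.smul_mem_pointwise_smul _ _ _ hu)
    rw [hg'] at h1
    exact h1
  have hγsurj : ∀ u' ∈ P, ∃ u ∈ P, γ u = u' := by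
    intro u' hu'
    have h1 : u' ∈ MulAut.conj g • (β • (P : Subgroup (Cfsg.PSp 2 F))) := by
      rw [hg']
      exact hu'
    rw [Subgroup.mem_pointwise_smul_iff_inv_smul_mem,
      Subgroup.mem_pointwise_smul_iff_inv_smul_mem] at h1
    refine ⟨_, h1, ?_⟩
    simp only [hγ, MulAut.smul_def, MulAut.mul_apply, MulAut.apply_inv_self]
  have hzcomm : ∀ y ∈ P, γ t₀ * y = y * γ t₀ := by
    intro u' hu'
    obtain ⟨u, hu, rfl⟩ := hγsurj u' hu'
    rw [← map_mul, ← map_mul, hPt' u hu]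
  obtain ⟨z₀, hz₀⟩ := QuotientGroup.mk_surjective (γ t₀)
  have hcomm' : ∀ u ∈ UUsp 2 F, z₀ * u = u * z₀ := by
    intro u hu
    obtain ⟨k, hk⟩ := (isPGroup_UUsp (m := 2) (F := F) 2) ⟨u, hu⟩
    have hk' : u ^ (2 ^ k) = 1 := by
      have := congrArg Subtype.val hk
      simpa using this
    apply comm_of_mk_comm (by omega) 2 hk'
    rw [hz₀]
    exact hzcomm _ (hUP (Subgroup.mem_map_of_mem _ hu))
  obtain ⟨z', hz'Q, hz'mk, hz'comm⟩ := exists_QQ_rep hm2
    (fun v hv => hcomm' _ (tvElt_mem_UUsp hv 1))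
  obtain ⟨β', b, hR⟩ := QQ_centralizer_gen hm2 hz'Q
    (fun i j hij => hz'comm _ (hcomm' _ (aij_mem hij)))
  have hR' : IsR (0 : Fin 2) 1 β' b z' := hR
  have hz'γ : (QuotientGroup.mk z' : Cfsg.PSp 2 F) = γ t₀ := by rw [hz'mk, hz₀]
  have hβγ : ∀ y : Cfsg.PSp 2 F, γ t₀ = y → β t₀ = (MulAut.conj g)⁻¹ y := by
    intro y hy
    rw [← hy, hγ, MulAut.mul_apply, ← MulAut.mul_apply, inv_mul_cancel, MulAut.one_apply]
  by_cases hb : b = 0
  · -- a transvection
    left
    rw [hb] at hR'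
    have hz't : z' = tvElt (eL (0 : Fin 2)) β' := hR'.eq_tvElt
    have hβ'0 : β' ≠ 0 := by
      rintro rfl
      rw [tvElt_zero] at hz't
      rw [hz't] at hz'γ
      have h1 : t₀ = 1 := by
        apply γ.injective
        rw [← hz'γ, map_one]
        rfl
      exact tbar_ne_one hm2 (eL_ne_zero (0 : Fin 2)) one_ne_zero h1
    have hβ : β t₀ = (MulAut.conj g)⁻¹ (tbar (eL (0 : Fin 2)) β') := by
      apply hβγ
      rw [← hz'γ, hz't]
      rfl
    rw [hβ, ← map_inv, MulAut.conj_apply]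
    exact isT_conj ⟨_, β', eL_ne_zero (0 : Fin 2), hβ'0, rfl⟩ _
  · by_cases hβ' : β' = 0
    · -- the image of a transvection under the exceptional automorphism
      right
      have hz'ψ : z' = psiHom h2 (tvElt (eL (0 : Fin 2)) b) := by
        apply sp_ext
        intro x
        rw [hR' x, psiHom_tvElt h2 b x, hβ']
      have hβ : β t₀ = (MulAut.conj g)⁻¹ (PsiP (tbar (eL (0 : Fin 2)) b)) := by
        apply hβγ
        rw [← hz'γ, hz'ψ]
        rfl
      have h3 : PsiP⁻¹ ((MulAut.conj g)⁻¹ (PsiP (tbar (eL (0 : Fin 2)) b))) =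
          (PsiP⁻¹ g⁻¹) * tbar (eL (0 : Fin 2)) b * (PsiP⁻¹ g⁻¹)⁻¹ := by
        rw [← map_inv, MulAut.conj_apply, map_mul, map_mul, MulAut.inv_apply_self]
        simp only [map_inv, inv_inv]
      rw [hβ, h3]
      exact isT_conj ⟨_, b, eL_ne_zero (0 : Fin 2), hb, rfl⟩ _
    · -- impossible: the centraliser would be a `2`-group
      exfalso
      set c₃ : Cfsg.PSp 2 F := QuotientGroup.mk (g3 (F := F)) with hc₃
      have hc₃t : c₃ * t₀ = t₀ * c₃ := by
        show (QuotientGroup.mk (g3 (F := F)) : Cfsg.PSp 2 F) *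
          QuotientGroup.mk (tvElt (eL (0 : Fin 2)) 1) =
          QuotientGroup.mk (tvElt (eL (0 : Fin 2)) 1) * QuotientGroup.mk (g3 (F := F))
        rw [← QuotientGroup.mk_mul, ← QuotientGroup.mk_mul, g3_comm]
      obtain ⟨h, hh⟩ := QuotientGroup.mk_surjective (γ c₃)
      have hcomm : h * z' = z' * h := by
        apply mk_injective_char_two (m := 2) (F := F) (by omega)
        show (QuotientGroup.mk (h * z') : Cfsg.PSp 2 F) = QuotientGroup.mk (z' * h)
        rw [QuotientGroup.mk_mul, QuotientGroup.mk_mul, hh, hz'γ, ← map_mul, ← map_mul, hc₃t]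
      have h4 := mixed_pow_four h2 hR' hβ' hb hcomm
      have h5 : γ c₃ * γ c₃ * (γ c₃ * γ c₃) = 1 := by
        rw [← hh, ← QuotientGroup.mk_mul, ← QuotientGroup.mk_mul, h4]
        rfl
      have h6 : c₃ * c₃ * (c₃ * c₃) = 1 := by
        apply γ.injective
        rw [map_mul, map_mul, h5, map_one]
      have h7 : c₃ * c₃ * c₃ = 1 := by
        rw [hc₃, ← QuotientGroup.mk_mul, ← QuotientGroup.mk_mul, g3_cube h2]
        rfl
      have h8 : c₃ = 1 := by
        rw [← mul_assoc, h7, one_mul] at h6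
        exact h6
      have h9 : g3 (F := F) = 1 := by
        apply mk_injective_char_two (m := 2) (F := F) (by omega)
        show (QuotientGroup.mk (g3 (F := F)) : Cfsg.PSp 2 F) = QuotientGroup.mk 1
        rw [← hc₃, h8]
        rfl
      exact g3_ne_one h9

/-- every automorphism preserves transvection images, possibly after composing with the
exceptional automorphism -/
theorem dich (β : MulAut (Cfsg.PSp 2 F)) : PresT β ∨ PresT (PsiP⁻¹ * β) := by
  rcases key β with h | h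
  · exact Or.inl (presT_of_t0 (0 : Fin 2) β h)
  · exact Or.inr (presT_of_t0 (0 : Fin 2) (PsiP⁻¹ * β) h)

end Finite

end Cfsg.Agent.Lib.Helper45.Sp4
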