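/-
helper45: an automorphism `β` of `PSp_2m(F)` such that `β` and `β⁻¹` map transvection images to
transvection images is induced by a semilinear conformal symplectic map (the per-automorphism
version of `PSpAut.exists_induced`).
-/
import Cfsg.Agent.Lib.Helper45.Sp4.Dich

set_option autoImplicit false

namespace Cfsg.Agent.Lib.Helper45.Sp4

open Matrix Cfsg.Agent.Lib.Helper13 Cfsg.Agent.Lib.Helper45.FTPG Cfsg.Agent.Lib.Helper45.PSpAut

variable {m : ℕ} {F : Type*} [Field F]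

/-- the map on vectors underlying the action of `β` on transvection groups -/
noncomputable def pmapB (β : MulAut (Cfsg.PSp m F)) (hβ : PresT β) (v : Fin m ⊕ Fin m → F) :
    Fin m ⊕ Fin m → F := by
  classical
  exact if h : v = 0 then 0 else Classical.choose (hβ _ ⟨v, 1, h, one_ne_zero, rfl⟩)

theorem pmapB_spec (β : MulAut (Cfsg.PSp m F)) (hβ : PresT β) {v : Fin m ⊕ Fin m → F}
    (hv : v ≠ 0) :
    pmapB β hβ v ≠ 0 ∧ ∃ d : F, d ≠ 0 ∧ β (tbar v 1) = tbar (pmapB β hβ v) d := by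
  classical
  have h := Classical.choose_spec (hβ _ ⟨v, 1, hv, one_ne_zero, rfl⟩)
  obtain ⟨d, h1, h2, h3⟩ := h
  have hp : pmapB β hβ v = Classical.choose (hβ _ ⟨v, 1, hv, one_ne_zero, rfl⟩) := by
    unfold pmapB
    rw [dif_neg hv]
  rw [hp]
  exact ⟨h1, d, h2, h3⟩

theorem pmapB_ne_zero (β : MulAut (Cfsg.PSp m F)) (hβ : PresT β) {v : Fin m ⊕ Fin m → F}
    (hv : v ≠ 0) : pmapB β hβ v ≠ 0 := (pmapB_spec β hβ hv).1

theorem pmapB_tbar (hm : 2 ≤ m) (β : MulAut (Cfsg.PSp m F)) (hβ : PresT β)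
    {v : Fin m ⊕ Fin m → F} (hv : v ≠ 0) {c : F} (hc : c ≠ 0) :
    ∃ d : F, d ≠ 0 ∧ β (tbar v c) = tbar (pmapB β hβ v) d := by
  obtain ⟨hp0, d₁, hd₁, h1⟩ := pmapB_spec β hβ hv
  obtain ⟨w, d', hw, hd', h2⟩ := hβ _ ⟨v, c, hv, hc, rfl⟩
  have h3 : ∃ (u : Fin m ⊕ Fin m → F) (e : F),
      tbar (pmapB β hβ v) d₁ * tbar w d' = tbar u e := by
    rw [← h1, ← h2, ← map_mul, tbar_mul]
    by_cases h0 : (1 : F) + c = 0
    · refine ⟨0, 0, ?_⟩
      rw [h0, tbar_zero, tbar_zero, map_one]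
    · obtain ⟨u, e, -, -, h4⟩ := hβ _ ⟨v, 1 + c, hv, h0, rfl⟩
      exact ⟨u, e, h4⟩
  obtain ⟨u, e, h3⟩ := h3
  have h5 := not_I2_of_tbar_mul hm hd₁ hd' h3
  obtain ⟨d'', hd'', h6⟩ := tbar_of_par (par_of_not_I2 hp0 hw h5) hd'
  exact ⟨d'', hd'', by rw [h2, h6]⟩

theorem pmapB_perp (hm : 2 ≤ m) (β : MulAut (Cfsg.PSp m F)) (hβ : PresT β)
    {v w : Fin m ⊕ Fin m → F} (hv : v ≠ 0) (hw : w ≠ 0) :
    Cfsg.sympForm m F v w = 0 ↔ Cfsg.sympForm m F (pmapB β hβ v) (pmapB β hβ w) = 0 := by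
  obtain ⟨-, d₁, hd₁, h1⟩ := pmapB_spec β hβ hv
  obtain ⟨-, d₂, hd₂, h2⟩ := pmapB_spec β hβ hw
  rw [← tbar_comm_iff hm (one_ne_zero (α := F)) (one_ne_zero (α := F)),
    ← tbar_comm_iff hm hd₁ hd₂, ← h1, ← h2, ← map_mul, ← map_mul]
  exact ⟨fun h => by rw [h], fun h => β.injective h⟩

theorem pmapB_surj (hm : 2 ≤ m) (β : MulAut (Cfsg.PSp m F)) (hβ : PresT β) (hβi : PresT β⁻¹)
    {w : Fin m ⊕ Fin m → F} (hw : w ≠ 0) :
    ∃ v : Fin m ⊕ Fin m → F, v ≠ 0 ∧ Par (K := F) (pmapB β hβ v) w := by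
  obtain ⟨v, c, hv, hc, h1⟩ := hβi _ ⟨w, 1, hw, one_ne_zero, rfl⟩
  obtain ⟨d, hd, h2⟩ := pmapB_tbar hm β hβ hv hc
  have h3 : tbar w (1 : F) = tbar (pmapB β hβ v) d := by
    rw [← h2, ← h1]
    simp
  exact ⟨v, hv, par_of_tbar_eq hm hw (pmapB_ne_zero β hβ hv) one_ne_zero hd h3⟩

/-- the point map is a collineation -/
theorem isColl_pmapB (hm : 2 ≤ m) (β : MulAut (Cfsg.PSp m F)) (hβ : PresT β) (hβi : PresT β⁻¹) :
    IsColl (K := F) (pmapB β hβ) where
  ne_zero := fun _ hx => pmapB_ne_zero β hβ hx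
  col := by
    intro x y z hx hy hz
    rw [sp2_iff_perp, sp2_iff_perp]
    constructor
    · intro h s' hs'x hs'y
      by_cases hs' : s' = 0
      · rw [hs', sympForm_zero_left]
      · obtain ⟨s, hs, hpar⟩ := pmapB_surj hm β hβ hβi hs'
        rw [← form_eq_zero_of_par_left hpar] at hs'x hs'y ⊢
        rw [← pmapB_perp hm β hβ hs hx] at hs'x
        rw [← pmapB_perp hm β hβ hs hy] at hs'y
        rw [← pmapB_perp hm β hβ hs hz]
        exact h s hs'x hs'y
    · intro h s hsx hsy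
      by_cases hs : s = 0
      · rw [hs, sympForm_zero_left]
      · rw [pmapB_perp hm β hβ hs hx] at hsx
        rw [pmapB_perp hm β hβ hs hy] at hsy
        rw [pmapB_perp hm β hβ hs hz]
        exact h _ hsx hsy

/-- **Main reduction**: if automorphisms preserve transvection images, they are all induced by
semilinear conformal symplectic maps. -/
theorem exists_induced_of_presT [Finite F] (hm : 2 ≤ m) (β : MulAut (Cfsg.PSp m F)) (hβ : PresT β)
    (hβi : PresT β⁻¹) :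
    ∃ (g : GL (Fin m ⊕ Fin m) F) (σ : F ≃+* F), g ∈ Cfsg.GSp m F ∧
      Cfsg.IsInducedBySemilinearPSp g σ β := by
  have hcoll := isColl_pmapB hm β hβ hβi
  obtain ⟨σ₀, f, hadd, hsmul, hpar⟩ := exists_semilinear hcoll (exists_not_sp2 hm)
  -- the field automorphism
  have hσbij : Function.Bijective σ₀ :=
    ⟨σ₀.injective, Finite.surjective_of_injective σ₀.injective⟩
  set σ : F ≃+* F := RingEquiv.ofBijective σ₀ hσbij with hσ
  have hσ₀ : ∀ a, σ a = σ₀ a := fun a => rfl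
  -- the matrix
  set G : Matrix (Fin m ⊕ Fin m) (Fin m ⊕ Fin m) F := Matrix.of fun i j => f (Pi.single j 1) i
    with hG
  have hfG : ∀ x, f x = G *ᵥ (fun i => σ (x i)) := fun x =>
    semilinear_eq_mulVec σ₀ f hadd hsmul x
  have hf0 : ∀ x, x ≠ 0 → f x ≠ 0 := by
    intro x hx
    exact ((hpar x hx).symm).ne_zero (pmapB_ne_zero β hβ hx)
  -- `G` preserves perpendicularity
  have hperp : ∀ x y : Fin m ⊕ Fin m → F, Cfsg.sympForm m F x y = 0 ↔
      Cfsg.sympForm m F (G *ᵥ x) (G *ᵥ y) = 0 := by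
    intro x y
    set x' : Fin m ⊕ Fin m → F := fun i => σ.symm (x i) with hx'
    set y' : Fin m ⊕ Fin m → F := fun i => σ.symm (y i) with hy'
    have hxx' : x = fun i => σ (x' i) := by
      ext i
      simp [hx']
    have hyy' : y = fun i => σ (y' i) := by
      ext i
      simp [hy']
    have h1 : Cfsg.sympForm m F x y = 0 ↔ Cfsg.sympForm m F x' y' = 0 := by
      rw [hxx', hyy', sympForm_comp]
      simp
    have hGx : G *ᵥ x = f x' := by rw [hfG, ← hxx']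
    have hGy : G *ᵥ y = f y' := by rw [hfG, ← hyy']
    rw [h1, hGx, hGy]
    have hf00 : f 0 = 0 := by
      have := hadd 0 0
      rw [add_zero] at this
      exact left_eq_add.mp this
    by_cases hx0 : x' = 0
    · rw [hx0, hf00, sympForm_zero_left, sympForm_zero_left]
    by_cases hy0 : y' = 0
    · rw [hy0, hf00, sympForm_zero_right, sympForm_zero_right]
    rw [pmapB_perp hm β hβ hx0 hy0, form_eq_zero_of_par_left (hpar x' hx0),
      form_eq_zero_of_par_right (hpar y' hy0)]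
  obtain ⟨g, μ, hg, hgG, hμ0, hμ⟩ := exists_GSp_of_perp_iff hperp (by omega)
  refine ⟨g, σ, hg, ?_⟩
  -- compare `β` with the induced automorphism
  set γ : MulAut (Cfsg.PSp m F) := indAut g hg σ with hγ
  have hfix : γ⁻¹ * β = 1 := by
    apply eq_one_of_fix_tbar hm
    intro v c hv hc
    obtain ⟨d, hd, h1⟩ := pmapB_tbar hm β hβ hv hc
    obtain ⟨d', hd', h2⟩ := tbar_of_par (hpar v hv) hd
    -- `γ` maps `tbar v c₀` to `tbar (f v) d'`
    set c₀ : F := σ.symm (d' * μ) with hc₀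
    have hc₀0 : c₀ ≠ 0 := by
      rw [hc₀]
      simp [hd', hμ0]
    have h3 : γ (tbar v c₀) = tbar (f v) d' := by
      rw [hγ, indAut_tbar g hg σ hμ0 hμ, hgG, ← hfG, hc₀]
      congr 1
      simp only [RingEquiv.apply_symm_apply]
      field_simp
    refine ⟨c₀, hc₀0, ?_⟩
    rw [MulAut.mul_apply, h1, h2, ← h3]
    simp
  have hβγ : β = γ := by
    have := congrArg (fun δ => γ * δ) hfix
    simpa using this
  rw [hβγ]
  exact isInduced_indAut g hg σ


end Cfsg.Agent.Lib.Helper45.Sp4
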