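/-
helper45: the automorphism group of `PSp_4(F)`, `F` finite of characteristic two: the standard
automorphisms (inner times field) have index two, the other coset is represented by the exceptional
automorphism `PsiP`, whose square is the Frobenius field automorphism.
-/
import Cfsg.Agent.Lib.Helper45.Sp4.PointsB
import Cfsg.Agent.Lib.Helper43.PSpSplit
import Cfsg.Agent.Lib.Helper43.PSpFieldCoset
import Cfsg.Agent.Lib.Helper43.PSLnOut

set_option autoImplicit false

namespace Cfsg.Agent.Lib.Helper45.Sp4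

open Matrix Cfsg.Agent.Lib.Helper13 Cfsg.Agent.Lib.Helper45.FTPG Cfsg.Agent.Lib.Helper45.PSpAut
  Cfsg.Agent.Lib.Helper43

variable {F : Type*} [Field F]

section General

variable {m : ℕ}

theorem gl_mulVec_ne_zero (g : GL (Fin m ⊕ Fin m) F) {w : Fin m ⊕ Fin m → F} (hw : w ≠ 0) :
    g.1 *ᵥ w ≠ 0 := by
  intro h
  apply hw
  rw [← gl_inv_mulVec_mulVec g w, h, Matrix.mulVec_zero]

/-- standard automorphisms preserve transvection images -/
theorem presT_of_mem_std [Finite F] {β : MulAut (Cfsg.PSp m F)} (h : β ∈ stdAutPSp m F) :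
    PresT β := by
  obtain ⟨g, σ, rfl⟩ := h
  have h1 : indAut g.1 g.2 σ = pspDiag g * pspField σ :=
    (isInducedBySemilinearPSp_iff g.1 g.2 σ _).1 (isInduced_indAut g.1 g.2 σ)
  rw [← h1]
  obtain ⟨μ, hμ⟩ := (mem_GSp_iff g.1).1 g.2
  rintro x ⟨v, c, hv, hc, rfl⟩
  rw [indAut_tbar g.1 g.2 σ μ.ne_zero hμ]
  refine ⟨_, _, ?_, ?_, rfl⟩
  · apply gl_mulVec_ne_zero
    intro h0
    apply hv
    funext i
    have := congrFun h0 i
    simpa using this
  · exact mul_ne_zero ((map_ne_zero σ).2 hc) (inv_ne_zero μ.ne_zero)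

/-- an automorphism which, together with its inverse, preserves transvection images is standard -/
theorem mem_std_of_presT [Finite F] (hm : 2 ≤ m) {β : MulAut (Cfsg.PSp m F)} (hβ : PresT β) :
    β ∈ stdAutPSp m F := by
  obtain ⟨g, σ, hg, h⟩ := exists_induced_of_presT hm β hβ hβ.inv
  rw [isInducedBySemilinearPSp_iff g hg] at h
  exact ⟨⟨g, hg⟩, σ, h⟩

theorem inn_le_std : Cfsg.Inn (Cfsg.PSp m F) ≤ stdAutPSp m F := by
  intro t ht
  obtain ⟨s, rfl⟩ := (mem_inn_psp_iff t).1 ht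
  exact ⟨toGSp s, 1, by rw [map_one, mul_one]⟩

/-- in characteristic two every inner-diagonal automorphism is inner -/
theorem pspDiag_mem_inn [Finite F] [CharP F 2] (g : ↥(Cfsg.GSp m F)) :
    (pspDiag g : MulAut (Cfsg.PSp m F)) ∈ Cfsg.Inn (Cfsg.PSp m F) := by
  obtain ⟨μ, hμ⟩ := (mem_GSp_iff g.1).mp g.2
  obtain ⟨c, hc⟩ := FiniteField.isSquare_of_char_two (CharP.ringChar_of_prime_eq_zero
    Nat.prime_two (CharTwo.two_eq_zero (R := F))) (μ : F)
  have hc0 : c ≠ 0 := by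
    intro h0
    rw [h0, mul_zero] at hc
    exact μ.ne_zero hc
  obtain ⟨s, hs⟩ := gsp_eq_scalar_mul_toGSp_of_sq g (Units.mk0 c hc0) (by
    intro u v
    rw [Units.val_mk0, ← hc]
    exact hμ u v)
  rw [hs, map_mul, pspDiag_scalarGSp, one_mul, mem_inn_psp_iff]
  exact ⟨s, rfl⟩

end General

section Finite

variable [Fintype F] [CharP F 2]

/-- the image of a long root element under the exceptional automorphism is not a transvection -/
theorem not_isT_PsiP : ¬ IsT (PsiP (tbar (eL (0 : Fin 2)) (1 : F))) := by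
  rintro ⟨v, c, hv, hc, h⟩
  have h1 : psiHom two_eq_zero' (tvElt (eL (0 : Fin 2)) (1 : F)) = tvElt v c := by
    apply mk_injective_char_two (m := 2) (F := F) (by omega)
    exact h
  have hR := psiHom_tvElt (two_eq_zero' (F := F)) (1 : F)
  rw [h1] at hR
  have hc' := hR (eR (0 : Fin 2))
  have hd' := hR (eR (1 : Fin 2))
  rw [tvElt_mulVec] at hc' hd'
  have e1 : (eR (0 : Fin 2) : I4 → F) (Sum.inr 0) = 1 := by rw [eR_inr, if_pos rfl]
  have e2 : (eR (0 : Fin 2) : I4 → F) (Sum.inr 1) = 0 := by rw [eR_inr, if_neg (by decide)]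
  have e3 : (eR (1 : Fin 2) : I4 → F) (Sum.inr 0) = 0 := by rw [eR_inr, if_neg (by decide)]
  have e4 : (eR (1 : Fin 2) : I4 → F) (Sum.inr 1) = 1 := by rw [eR_inr, if_pos rfl]
  rw [e1, e2] at hc'
  rw [e3, e4] at hd'
  -- `e_b = k₂ v`, `e_a = k₁ v`
  have hb1 := congrFun hc' (Sum.inl 1)
  have hb2 := congrFun hd' (Sum.inl 1)
  have ha2 := congrFun hd' (Sum.inl 0)
  simp only [Pi.add_apply, Pi.smul_apply, smul_eq_mul, eL_inl, eR_inl] at hb1 hb2 ha2
  norm_num at hb1 hb2 ha2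
  rcases hb2 with (h0 | h0) | h0
  · exact hc h0
  · rw [h0, mul_zero, zero_mul] at ha2
    exact zero_ne_one ha2
  · rw [h0, mul_zero] at hb1
    exact zero_ne_one hb1

/-- every automorphism is standard, possibly after composing with the exceptional automorphism -/
theorem aut_dich (β : MulAut (Cfsg.PSp 2 F)) :
    β ∈ stdAutPSp 2 F ∨ PsiP⁻¹ * β ∈ stdAutPSp 2 F := by
  rcases dich β with h | h
  · exact Or.inl (mem_std_of_presT (le_refl 2) h)
  · exact Or.inr (mem_std_of_presT (le_refl 2) h)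

theorem PsiP_not_mem_std : (PsiP : MulAut (Cfsg.PSp 2 F)) ∉ stdAutPSp 2 F := fun h =>
  not_isT_PsiP (presT_of_mem_std h _ ⟨eL (0 : Fin 2), 1, eL_ne_zero (0 : Fin 2), one_ne_zero, rfl⟩)

theorem frobR_pow_apply (n : ℕ) (x : F) : ((frobR : RingAut F) ^ n) x = x ^ (2 ^ n) := by
  induction n generalizing x with
  | zero => simp
  | succ n ih =>
    rw [pow_succ, RingAut.mul_apply, ih, frobR_apply, ← pow_mul, pow_succ, mul_comm]

/-- the Frobenius automorphism generates the automorphism group of a finite field of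
characteristic two -/
theorem exists_frobR_pow (σ : RingAut F) : ∃ n : ℕ, σ = frobR ^ n := by
  let _ : Algebra (ZMod 2) F := ZMod.algebra F 2
  have hcomm : ∀ r : ZMod 2, σ (algebraMap (ZMod 2) F r) = algebraMap (ZMod 2) F r := by
    intro r
    rw [← ZMod.natCast_zmod_val r, map_natCast, map_natCast]
  obtain ⟨n, hn⟩ := (FiniteField.bijective_frobeniusAlgEquivOfAlgebraic_pow (ZMod 2) F).2
    (AlgEquiv.ofRingEquiv (f := σ) hcomm)
  refine ⟨n.1, ?_⟩
  apply RingEquiv.ext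
  intro x
  have h1 := congrArg (fun e : F ≃ₐ[ZMod 2] F => e x) hn
  simp only [AlgEquiv.coe_pow, FiniteField.coe_frobeniusAlgEquivOfAlgebraic_iterate, ZMod.card]
    at h1
  rw [frobR_pow_apply, h1]
  rfl

theorem orderOf_frobR {f : ℕ} (hf : 1 ≤ f) (hF : Fintype.card F = 2 ^ f) :
    orderOf (frobR : RingAut F) = f := by
  rw [orderOf_eq_card_of_forall_mem_zpowers (g := (frobR : RingAut F)), card_ringAut hf hF]
  intro σ
  obtain ⟨n, rfl⟩ := exists_frobR_pow σ
  exact Subgroup.pow_mem _ (Subgroup.mem_zpowers _) n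

theorem PsiP_pow_two_mul (j : ℕ) :
    (PsiP : MulAut (Cfsg.PSp 2 F)) ^ (2 * j) = pspField (frobR ^ j) := by
  rw [pow_mul, pow_two, PsiP_mul_PsiP, map_pow]

omit [Fintype F] [CharP F 2] in
theorem pspField_mem_std (σ : RingAut F) : (pspField σ : MulAut (Cfsg.PSp 2 F)) ∈ stdAutPSp 2 F :=
  ⟨1, σ, by rw [map_one, one_mul]⟩

/-- a power of the exceptional automorphism is inner exactly when the exponent is a multiple of
`2 f` -/
theorem PsiP_pow_mem_inn_iff {f : ℕ} (hf : 1 ≤ f) (hF : Fintype.card F = 2 ^ f) (k : ℕ) :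
    (PsiP : MulAut (Cfsg.PSp 2 F)) ^ k ∈ Cfsg.Inn (Cfsg.PSp 2 F) ↔ 2 * f ∣ k := by
  constructor
  · intro h
    rcases Nat.even_or_odd' k with ⟨j, rfl | rfl⟩
    · rw [PsiP_pow_two_mul] at h
      obtain ⟨s, hs⟩ := (mem_inn_psp_iff _).1 h
      have h1 : (frobR : RingAut F) ^ j = 1 :=
        field_part_unique (m := 2) (by omega) 1 (toGSp s) (frobR ^ j) 1
          (by rw [map_one, one_mul, map_one, mul_one]; exact hs)
      have h2 := orderOf_dvd_of_pow_eq_one h1
      rw [orderOf_frobR hf hF] at h2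
      exact Nat.mul_dvd_mul_left 2 h2
    · exfalso
      rw [pow_succ, PsiP_pow_two_mul] at h
      have h1 := inn_le_std h
      apply PsiP_not_mem_std (F := F)
      have h2 := (stdAutPSp 2 F).mul_mem ((stdAutPSp 2 F).inv_mem (pspField_mem_std (frobR ^ j))) h1
      rwa [inv_mul_cancel_left] at h2
  · rintro ⟨t, rfl⟩
    have h1 := pow_orderOf_eq_one (frobR : RingAut F)
    rw [orderOf_frobR hf hF] at h1
    rw [mul_assoc, PsiP_pow_two_mul, pow_mul, h1, one_pow, map_one]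
    exact Subgroup.one_mem _

/-- the class of a standard automorphism in `Out` is an even power of the class of `PsiP` -/
theorem std_mk_out {β : MulAut (Cfsg.PSp 2 F)} (h : β ∈ stdAutPSp 2 F) :
    ∃ n : ℕ, (QuotientGroup.mk β : Cfsg.Out (Cfsg.PSp 2 F)) =
      (QuotientGroup.mk (PsiP : MulAut (Cfsg.PSp 2 F)) : Cfsg.Out (Cfsg.PSp 2 F)) ^ (2 * n) := by
  obtain ⟨g, σ, rfl⟩ := h
  obtain ⟨n, rfl⟩ := exists_frobR_pow σ
  refine ⟨n, ?_⟩
  rw [QuotientGroup.mk_mul, (QuotientGroup.eq_one_iff _).2 (pspDiag_mem_inn g), one_mul,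
    ← QuotientGroup.mk_pow, PsiP_pow_two_mul]

/-- `Out(PSp_4(F))` is generated by the class of the exceptional automorphism -/
theorem mk_out_mem_zpowers (x : Cfsg.Out (Cfsg.PSp 2 F)) :
    x ∈ Subgroup.zpowers
      (QuotientGroup.mk (PsiP : MulAut (Cfsg.PSp 2 F)) : Cfsg.Out (Cfsg.PSp 2 F)) := by
  obtain ⟨β, rfl⟩ := QuotientGroup.mk_surjective x
  rcases aut_dich β with h | h
  · obtain ⟨n, hn⟩ := std_mk_out h
    rw [hn]
    exact Subgroup.pow_mem _ (Subgroup.mem_zpowers _) _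
  · obtain ⟨n, hn⟩ := std_mk_out h
    have h1 : (QuotientGroup.mk β : Cfsg.Out (Cfsg.PSp 2 F)) =
        QuotientGroup.mk (PsiP : MulAut (Cfsg.PSp 2 F)) * QuotientGroup.mk (PsiP⁻¹ * β) := by
      rw [← QuotientGroup.mk_mul, mul_inv_cancel_left]
    rw [h1, hn]
    exact Subgroup.mul_mem _ (Subgroup.mem_zpowers _)
      (Subgroup.pow_mem _ (Subgroup.mem_zpowers _) _)

end Finite

end Cfsg.Agent.Lib.Helper45.Sp4
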