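/-
helper45: the order of the group of standard automorphisms (inner-diagonal times field) of
`PSp_2m(F)`, `F` finite: `gcd(2, q - 1) * f * |PSp_2m(F)|`.
-/
import Cfsg.Agent.Lib.Helper45.Sp4.Out

set_option autoImplicit false

namespace Cfsg.Agent.Lib.Helper45.Sp4

open Matrix Cfsg.Agent.Lib.Helper13 Cfsg.Agent.Lib.Helper45.FTPG Cfsg.Agent.Lib.Helper45.PSpAut
  Cfsg.Agent.Lib.Helper43

variable {m : ℕ} {F : Type*} [Field F]

/-- `PSp_2m(F)` has trivial centre: conjugation is injective -/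
theorem conj_psp_injective (hm : 1 ≤ m) :
    Function.Injective (MulAut.conj : Cfsg.PSp m F →* MulAut (Cfsg.PSp m F)) := by
  rw [injective_iff_map_eq_one]
  intro x hx
  obtain ⟨s, rfl⟩ := QuotientGroup.mk_surjective x
  rw [← pspDiag_toGSp, pspDiag_eq_one_iff hm] at hx
  obtain ⟨c, hc⟩ := hx
  have h1 : s.1 = (c : F) • (1 : Matrix (Fin m ⊕ Fin m) (Fin m ⊕ Fin m) F) := by
    rw [← toGSp_coe s, hc, scalarGSp_coe]
  rw [QuotientGroup.eq_one_iff]
  apply mem_center_of_smul (a := (c : F))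
  intro y
  rw [h1, Matrix.smul_mulVec, Matrix.one_mulVec]

theorem card_inn_psp (hm : 1 ≤ m) :
    Nat.card (Cfsg.Inn (Cfsg.PSp m F)) = Nat.card (Cfsg.PSp m F) :=
  (Nat.card_congr (MonoidHom.ofInjective (conj_psp_injective (F := F) hm)).toEquiv).symm

theorem inn_le_range_pspDiag :
    Cfsg.Inn (Cfsg.PSp m F) ≤ (pspDiag : ↥(Cfsg.GSp m F) →* MulAut (Cfsg.PSp m F)).range := by
  intro t ht
  obtain ⟨s, rfl⟩ := (mem_inn_psp_iff t).1 ht
  exact ⟨toGSp s, rfl⟩

/-- the order of the group of inner-diagonal automorphisms -/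
theorem card_range_pspDiag [Fintype F] (hm : 1 ≤ m) :
    Nat.card (pspDiag : ↥(Cfsg.GSp m F) →* MulAut (Cfsg.PSp m F)).range =
      Nat.gcd 2 (Fintype.card F - 1) * Nat.card (Cfsg.PSp m F) := by
  set D := (pspDiag : ↥(Cfsg.GSp m F) →* MulAut (Cfsg.PSp m F)).range with hD
  set I := Cfsg.Inn (Cfsg.PSp m F) with hI
  have hle : I ≤ D := inn_le_range_pspDiag
  have h1 : (I.subgroupOf D).index * Nat.card (I.subgroupOf D) = Nat.card D :=
    Subgroup.index_mul_card _
  have h2 : Nat.card (I.subgroupOf D) = Nat.card I :=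
    Nat.card_congr (Subgroup.subgroupOfEquivOfLe hle).toEquiv
  have h3 : (I.subgroupOf D).index = Nat.gcd 2 (Fintype.card F - 1) := by
    have hsurj : Function.Surjective
        (pspDiag : ↥(Cfsg.GSp m F) →* MulAut (Cfsg.PSp m F)).rangeRestrict :=
      MonoidHom.rangeRestrict_surjective _
    rw [← Subgroup.index_comap_of_surjective _ hsurj]
    have h4 : (I.subgroupOf D).comap
        (pspDiag : ↥(Cfsg.GSp m F) →* MulAut (Cfsg.PSp m F)).rangeRestrict =
        ((powMonoidHom 2 : Fˣ →* Fˣ).range).comap (gspMult hm) := by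
      ext g
      rw [Subgroup.mem_comap, Subgroup.mem_comap, Subgroup.mem_subgroupOf,
        ← pspDiag_mem_inn_iff hm g]
      rfl
    rw [h4, Subgroup.index_comap_of_surjective _ (fun κ => gspMult_surjective hm κ),
      IsCyclic.index_powMonoidHom_range, Nat.card_units, Nat.card_eq_fintype_card, Nat.gcd_comm]
  rw [← h1, h2, h3, hI, card_inn_psp hm]

/-- the order of the group of standard automorphisms -/
theorem card_stdAutPSp (hm : 1 ≤ m) :
    Nat.card (stdAutPSp m F) =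
      Nat.card (pspDiag : ↥(Cfsg.GSp m F) →* MulAut (Cfsg.PSp m F)).range *
        Nat.card (RingAut F) := by
  rw [← Nat.card_prod]
  symm
  apply Nat.card_congr
  refine Equiv.ofBijective (fun x => ⟨x.1.1 * pspField x.2, ?_⟩) ⟨?_, ?_⟩
  · obtain ⟨g, hg⟩ := x.1.2
    exact ⟨g, x.2, by rw [hg]⟩
  · rintro ⟨⟨d, g, rfl⟩, σ⟩ ⟨⟨d', g', rfl⟩, σ'⟩ h
    have h1 : (pspDiag g : MulAut (Cfsg.PSp m F)) * pspField σ = pspDiag g' * pspField σ' :=
      congrArg Subtype.val h
    have h2 : σ = σ' := field_part_unique hm g g' σ σ' h1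
    subst h2
    have h3 : (pspDiag g : MulAut (Cfsg.PSp m F)) = pspDiag g' := mul_right_cancel h1
    simp only [h3]
  · rintro ⟨β, g, σ, rfl⟩
    exact ⟨⟨⟨pspDiag g, g, rfl⟩, σ⟩, rfl⟩

theorem card_stdAutPSp' [Fintype F] {p f : ℕ} [Fact p.Prime] (hf : 1 ≤ f)
    (hF : Fintype.card F = p ^ f) (hm : 1 ≤ m) :
    Nat.card (stdAutPSp m F) = Nat.gcd 2 (p ^ f - 1) * f * Nat.card (Cfsg.PSp m F) := by
  rw [card_stdAutPSp hm, card_range_pspDiag hm, card_ringAut hf hF, hF]
  ring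

end Cfsg.Agent.Lib.Helper45.Sp4
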